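import Cfsg.Agent.H973.QA.Crit
import Cfsg.Agent.H306.QA.Feit
import Cfsg.Agent.H306.QA.LThreeFour
import Cfsg.Agent.H715.Fpr.MathData
import Cfsg.Agent.H96.Quot.MTwentyTwo

/-!
# S4979, layer (A): the row `M22`, all covers (helper575)
-/

set_option autoImplicit false

namespace Cfsg.Agent.H575.QA

open Cfsg Cfsg.Agent.H152.QA Cfsg.Agent.H80.Fpf Subgroup

theorem m22_prime_cases {p : ℕ} (hp : p.Prime) (h2 : p ≠ 2) (h : p ∣ 443520) : p = 3 ∨ p = 5 ∨ p = 7 ∨ p = 11 := by
  have key : ∀ r k : ℕ, r.Prime → p ∣ r ^ k → p = r := fun r k hr hd =>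
    (Nat.prime_dvd_prime_iff_eq hp hr).1 (hp.dvd_of_dvd_pow hd)
  have h' : p ∣ 2 ^ 7 * 3 ^ 2 * 5 ^ 1 * 7 * 11 := by norm_num; exact h
  rcases (Nat.Prime.dvd_mul hp).1 h' with h | h
  · rcases (Nat.Prime.dvd_mul hp).1 h with h | h
    · rcases (Nat.Prime.dvd_mul hp).1 h with h | h
      · rcases (Nat.Prime.dvd_mul hp).1 h with h | h
        · exact absurd (key 2 _ (by norm_num) h) h2
        · exact Or.inl (key 3 _ (by norm_num) h)
      · exact Or.inr (Or.inl (key 5 _ (by norm_num) h))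
    · exact Or.inr (Or.inr (Or.inl ((Nat.prime_dvd_prime_iff_eq hp (by norm_num)).1 h)))
  · exact Or.inr (Or.inr (Or.inr ((Nat.prime_dvd_prime_iff_eq hp (by norm_num)).1 h)))

/-- elements of order 3 of `M22`: the normaliser has at least 9 elements -/
theorem nine_le {x : Spor.M22} (hx : orderOf x = 3) : 9 ≤ Nat.card (normalizer (zpowers x : Set Spor.M22)) := by
  have hcard : Nat.card Spor.M22 = 443520 := Cfsg.Agent.H715.Fpr.MathData.card22
  have hfin : Finite Spor.M22 := Nat.finite_of_card_ne_zero (by rw [hcard]; norm_num)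
  have hf3 : Fact (Nat.Prime 3) := ⟨by norm_num⟩
  have hX : IsPGroup 3 (zpowers x) := IsPGroup.of_card (n := 1) (by rw [Nat.card_zpowers, hx, pow_one])
  obtain ⟨P, hP⟩ := hX.exists_le_sylow
  have hPc : Nat.card P = 3 ^ 2 := by
    rw [Sylow.card_eq_multiplicity, hcard]
    congr 1
    have : (443520 : ℕ) = 3 ^ 2 * 49280 := by norm_num
    rw [this, Nat.factorization_mul (by norm_num) (by norm_num), Nat.Prime.factorization_pow (by norm_num)]
    rw [Finsupp.add_apply, Finsupp.single_eq_same, Nat.factorization_eq_zero_of_not_dvd (by norm_num)]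
  have hcomm : ∀ a b : P, a * b = b * a := IsPGroup.commutative_of_card_eq_prime_sq hPc
  have hle : (P : Subgroup Spor.M22) ≤ normalizer (zpowers x : Set Spor.M22) := by
    refine le_trans ?_ (Subgroup.centralizer_le_normalizer _)
    intro a ha
    rw [mem_centralizer_iff]
    intro b hb
    exact congrArg Subtype.val (hcomm ⟨b, hP hb⟩ ⟨a, ha⟩)
  calc 9 = Nat.card P := by rw [hPc]; norm_num
    _ ≤ _ := Nat.card_le_card_of_injective _ (Subgroup.inclusion_injective hle)

theorem m22_no_psit {p q : ℕ} {G V : Type} [Group G] [Finite G] [AddCommGroup V] [Finite V] [DistribMulAction G V]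
    {ψ : G →* Spor.M22} (hψ : IsCover ψ) (h : PSit p q G V) : False := by
  have hs := Cfsg.Agent.H715.Fpr.MathData.simple22
  have hcard : Nat.card Spor.M22 = 443520 := Cfsg.Agent.H715.Fpr.MathData.card22
  have hfin : Finite Spor.M22 := Nat.finite_of_card_ne_zero (by rw [hcard]; norm_num)
  obtain ⟨hpS, hqS⟩ := Cfsg.Agent.H306.QA.PSit.dvd_S h hψ
  rw [hcard] at hpS hqS
  have hq : 13 ≤ q := by
    by_contra hlt
    have hlt' : q < 13 := by omega
    have h2 := h.hq
    interval_cases q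
    · exact absurd h2 (by norm_num)
    · exact absurd h2 (by norm_num)
    all_goals first | exact hqS (by norm_num) | exact absurd h2 (by norm_num)
  have hB : Cfsg.Agent.H122.MinDeg G 10 := by
    refine Cfsg.Agent.H306.QA.minDeg_feit hψ (r := 11) (by norm_num) ?_ (by norm_num) (by norm_num) ?_ ?_ ?_ ?_
    · rw [hcard]; norm_num
    · rw [hcard]; norm_num
    · rw [hcard]; norm_num
    · left; rw [hcard]; norm_num
    · left; rw [hcard]; norm_num
  have l11 : Nat.log 13 (443520 / 55) = 3 := by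
    rw [Nat.log_eq_iff (by norm_num)]; norm_num
  have l7 : Nat.log 13 (443520 / 21) = 3 := by
    rw [Nat.log_eq_iff (by norm_num)]; norm_num
  have l5 : Nat.log 13 (443520 / 20) = 3 := by
    rw [Nat.log_eq_iff (by norm_num)]; norm_num
  have l9 : Nat.log 13 49280 = 4 := by
    rw [Nat.log_eq_iff (by norm_num)]; norm_num
  have hcc : ∀ x : Spor.M22, centralizer ((zpowers x : Subgroup Spor.M22) : Set Spor.M22) = centralizer {x} := by
    intro x
    rw [Subgroup.zpowers_eq_closure, Subgroup.centralizer_closure]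
  rcases m22_prime_cases h.hp h.odd hpS with rfl | rfl | rfl | rfl
  · -- 3
    obtain ⟨x, t, hx, hgen⟩ := Cfsg.Agent.H96.Quot.MTwentyTwo.m22_gen
    have hord : orderOf (t * x * t⁻¹) = 3 := by
      rw [← hx]
      exact (MulAut.conj t).orderOf_eq x
    have hidx : ∀ y : Spor.M22, orderOf y = 3 → (normalizer (zpowers y : Set Spor.M22)).index ≤ 49280 := by
      intro y hy
      have h1 := Cfsg.Agent.H973.QA.index_le hcard (n := 9) (by norm_num) _ (nine_le hy)
      exact h1.trans (by norm_num)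
    refine Cfsg.Agent.H973.QA.PSit.no_gen h hψ hB (q0 := 13) (by norm_num) hq
      [(x, 49280), (t * x * t⁻¹, 49280)] ?_ ?_ ?_
    · intro z hz
      rcases List.mem_cons.1 hz with rfl | hz
      · exact ⟨⟨1, by rw [pow_one]; exact hx⟩, hidx _ hx⟩
      · rw [List.mem_singleton] at hz
        subst hz
        exact ⟨⟨1, by rw [pow_one]; exact hord⟩, hidx _ hord⟩
    · intro H hH
      rw [eq_top_iff, ← hgen, Subgroup.closure_le]
      rintro y (rfl | hy)
      · exact hH (y, 49280) List.mem_cons_self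
      · rw [Set.mem_singleton_iff.1 hy]
        exact hH (t * x * t⁻¹, 49280) (List.mem_cons_of_mem _ List.mem_cons_self)
    · simp only [List.map_cons, List.map_nil, List.sum_cons, List.sum_nil, l9]
      norm_num
  · -- 5
    have hf : Fact (Nat.Prime 5) := ⟨by norm_num⟩
    obtain ⟨x, hx⟩ := exists_prime_orderOf_dvd_card' (G := Spor.M22) 5 (by rw [hcard]; norm_num)
    obtain ⟨hc, hn⟩ := Cfsg.Agent.H715.Fpr.MathData.cn22_5 (R := zpowers x) (by rw [Nat.card_zpowers, hx])
    rw [hcc] at hc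
    exact Cfsg.Agent.H973.QA.PSit.no_ch h hψ (s := 3) (n := 20) hB (by norm_num) hq hcard hx (by rw [hc]; norm_num)
      (by norm_num) hn.ge (by rw [l5]; norm_num)
  · -- 7
    have hf : Fact (Nat.Prime 7) := ⟨by norm_num⟩
    obtain ⟨x, hx⟩ := exists_prime_orderOf_dvd_card' (G := Spor.M22) 7 (by rw [hcard]; norm_num)
    obtain ⟨hc, hn⟩ := Cfsg.Agent.H715.Fpr.MathData.cn22_7 (R := zpowers x) (by rw [Nat.card_zpowers, hx])
    rw [hcc] at hc
    exact Cfsg.Agent.H973.QA.PSit.no_ch h hψ (s := 3) (n := 21) hB (by norm_num) hq hcard hx (by rw [hc]; norm_num)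
      (by norm_num) hn.ge (by rw [l7]; norm_num)
  · -- 11
    have hf : Fact (Nat.Prime 11) := ⟨by norm_num⟩
    obtain ⟨x, hx⟩ := exists_prime_orderOf_dvd_card' (G := Spor.M22) 11 (by rw [hcard]; norm_num)
    obtain ⟨hc, hn⟩ := Cfsg.Agent.H715.Fpr.MathData.cn22_11 (R := zpowers x) (by rw [Nat.card_zpowers, hx])
    rw [hcc] at hc
    exact Cfsg.Agent.H973.QA.PSit.no_ch h hψ (s := 4) (n := 55) hB (by norm_num) hq hcard hx (by rw [hc]; norm_num)
      (by norm_num) hn.ge (by rw [l11]; norm_num)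

/-- **the row `M22`** -/
theorem row_m22 {S : Type} [Group S] [Finite S] [IsSimpleGroup S] (h : Spor.IsoM22 S) : NoSit S := by
  obtain ⟨e⟩ := h
  refine NoSit.of_equiv e ?_
  have hs := Cfsg.Agent.H715.Fpr.MathData.simple22
  have hcard : Nat.card Spor.M22 = 443520 := Cfsg.Agent.H715.Fpr.MathData.card22
  have hfin : Finite Spor.M22 := Nat.finite_of_card_ne_zero (by rw [hcard]; norm_num)
  intro p q L V _ _ _ _ _ π N φ hπ hS
  obtain ⟨G, _, _, _, ψ, hψ, -, -, hP⟩ := hS.exists_pSit' hπ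
  exact m22_no_psit hψ hP

end Cfsg.Agent.H575.QA
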