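import Cfsg.Agent.H575.QA.AltGen
import Mathlib

/-!
# S4979, row `A_n`: `p`-cycles (helper575)
-/

set_option autoImplicit false

open Equiv

namespace Cfsg.Agent.H575.QA

variable {n : ℕ}

/-- `x` is a `p`-cycle -/
structure IsPC (p : ℕ) (x : alternatingGroup (Fin n)) : Prop where
  cyc : (x : Perm (Fin n)).IsCycle
  card : (x : Perm (Fin n)).support.card = p

theorem exists_isPC {p : ℕ} (hp : p.Prime) (ho : Odd p) (hpn : p ≤ n) : ∃ x : alternatingGroup (Fin n), IsPC p x :=
  ⟨⟨win n p 0 (by omega), cycle_mem_alt (win_isCycle _ hp.two_le) (by rw [win_card _ hp.two_le]; exact ho)⟩,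
    win_isCycle (by omega) hp.two_le, win_card (by omega) hp.two_le⟩

theorem IsPC.order {p : ℕ} {x : alternatingGroup (Fin n)} (h : IsPC p x) : orderOf x = p := by
  rw [← Subgroup.orderOf_coe, h.cyc.orderOf, h.card]

theorem IsPC.cycleType {p : ℕ} {x : alternatingGroup (Fin n)} (h : IsPC p x) :
    (x : Perm (Fin n)).cycleType = {p} := by
  rw [h.cyc.cycleType, h.card]

theorem IsPC.pow {p : ℕ} (hp : p.Prime) {x : alternatingGroup (Fin n)} (h : IsPC p x) {k : ℕ} (h0 : 0 < k) (hk : k < p) :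
    IsPC p (x ^ k) := by
  have ho : orderOf (x : Perm (Fin n)) = p := by rw [h.cyc.orderOf, h.card]
  refine ⟨?_, ?_⟩
  · rw [Subgroup.coe_pow]
    exact h.cyc.isCycle_pow_pos_of_lt_prime_order (by rw [ho]; exact hp) k h0 (by rw [ho]; exact hk)
  · rw [Subgroup.coe_pow, h.cyc.support_pow_of_pos_of_lt_orderOf h0 (by rw [ho]; exact hk), h.card]

theorem IsPC.pow' {p : ℕ} (hp : p.Prime) {x : alternatingGroup (Fin n)} (h : IsPC p x) {k : ℕ} (hk : ¬ p ∣ k) :
    IsPC p (x ^ k) := by
  have h1 : x ^ k = x ^ (k % p) := by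
    rw [← h.order, pow_mod_orderOf]
  rw [h1]
  refine h.pow hp (Nat.pos_of_ne_zero fun h0 => hk (Nat.dvd_of_mod_eq_zero h0)) (Nat.mod_lt _ hp.pos)

theorem IsPC.conj {p : ℕ} {x : alternatingGroup (Fin n)} (h : IsPC p x) (g : alternatingGroup (Fin n)) :
    IsPC p (g * x * g⁻¹) := by
  refine ⟨?_, ?_⟩
  · have : ((g * x * g⁻¹ : alternatingGroup (Fin n)) : Perm (Fin n)) = (g : Perm (Fin n)) * x * (g : Perm (Fin n))⁻¹ := rfl
    rw [this]
    exact h.cyc.conj
  · have : ((g * x * g⁻¹ : alternatingGroup (Fin n)) : Perm (Fin n)) = (g : Perm (Fin n)) * x * (g : Perm (Fin n))⁻¹ := rfl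
    rw [this, Perm.card_support_conj, h.card]

/-- the number of subgroups generated by `p`-cycles -/
theorem IsPC.index_le {p : ℕ} (hp : p.Prime) (ho : Odd p) (hpn : p ≤ n) {x : alternatingGroup (Fin n)} (h : IsPC p x) :
    p * (p - 1) * (Subgroup.normalizer ((Subgroup.zpowers x : Subgroup (alternatingGroup (Fin n))) :
      Set (alternatingGroup (Fin n)))).index ≤ n.descFactorial p := by
  classical
  set N := Subgroup.normalizer ((Subgroup.zpowers x : Subgroup (alternatingGroup (Fin n))) :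
      Set (alternatingGroup (Fin n))) with hN
  let f : (alternatingGroup (Fin n) ⧸ N) × Fin (p - 1) →
      ((Finset.univ.filter fun g : alternatingGroup (Fin n) => g.val.cycleType = {p}) : Finset _) := fun ci =>
    ⟨ci.1.out * x ^ ((ci.2 : ℕ) + 1) * ci.1.out⁻¹, by
      rw [Finset.mem_filter]
      refine ⟨Finset.mem_univ _, ?_⟩
      have h1 := (h.pow hp (Nat.succ_pos (ci.2 : ℕ)) (by have := ci.2.2; omega)).conj ci.1.out
      exact h1.cycleType⟩
  have hf : Function.Injective f := by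
    rintro ⟨c, i⟩ ⟨d, j⟩ hij
    have h1 : c.out * x ^ ((i : ℕ) + 1) * c.out⁻¹ = d.out * x ^ ((j : ℕ) + 1) * d.out⁻¹ := congrArg Subtype.val hij
    have hi := i.2
    have hj := j.2
    have hxi : ∀ k : ℕ, 0 < k → k < p → Subgroup.zpowers (x ^ k) = Subgroup.zpowers x := by
      intro k h0 hk
      apply Subgroup.eq_of_le_of_card_ge
      · rw [Subgroup.zpowers_le]
        exact Subgroup.pow_mem _ (Subgroup.mem_zpowers x) k
      · rw [Nat.card_zpowers, Nat.card_zpowers, h.order, (h.pow hp h0 hk).order]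
    have h2 : (d.out)⁻¹ * c.out ∈ N := by
      have h3 : ((d.out)⁻¹ * c.out) * x ^ ((i : ℕ) + 1) * ((d.out)⁻¹ * c.out)⁻¹ = x ^ ((j : ℕ) + 1) := by
        have : ((d.out)⁻¹ * c.out) * x ^ ((i : ℕ) + 1) * ((d.out)⁻¹ * c.out)⁻¹ =
            (d.out)⁻¹ * (c.out * x ^ ((i : ℕ) + 1) * c.out⁻¹) * d.out := by group
        rw [this, h1]
        group
      have h4 : (Subgroup.zpowers x).map (MulAut.conj ((d.out)⁻¹ * c.out)).toMonoidHom = Subgroup.zpowers x := by
        conv_lhs => rw [← hxi ((i : ℕ) + 1) (by omega) (by omega)]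
        rw [MonoidHom.map_zpowers]
        have h5 : (MulAut.conj ((d.out)⁻¹ * c.out)).toMonoidHom (x ^ ((i : ℕ) + 1)) = x ^ ((j : ℕ) + 1) := h3
        rw [h5, hxi ((j : ℕ) + 1) (by omega) (by omega)]
      refine Subgroup.mem_normalizer_iff.2 ?_
      intro y
      constructor
      · intro hy
        have h6 : (MulAut.conj ((d.out)⁻¹ * c.out)).toMonoidHom y ∈ (Subgroup.zpowers x).map (MulAut.conj ((d.out)⁻¹ * c.out)).toMonoidHom :=
          ⟨y, hy, rfl⟩
        rw [h4] at h6
        exact h6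
      · intro hy
        have h6 : ((d.out)⁻¹ * c.out) * y * ((d.out)⁻¹ * c.out)⁻¹ ∈ (Subgroup.zpowers x).map (MulAut.conj ((d.out)⁻¹ * c.out)).toMonoidHom := by
          rw [h4]; exact hy
        obtain ⟨z, hz, hzy⟩ := h6
        have h7 : z = y := (MulAut.conj ((d.out)⁻¹ * c.out)).injective hzy
        rw [← h7]; exact hz
    have h8 : d = c := by
      rw [← QuotientGroup.out_eq' d, ← QuotientGroup.out_eq' c, QuotientGroup.eq]
      exact h2
    subst h8
    have h9 : x ^ ((i : ℕ) + 1) = x ^ ((j : ℕ) + 1) := by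
      exact mul_left_cancel (mul_right_cancel h1)
    have h10 := pow_injOn_Iio_orderOf (x := x) (by rw [h.order]; exact Set.mem_Iio.2 (by omega))
      (by rw [h.order]; exact Set.mem_Iio.2 (by omega)) h9
    have h11 : i = j := Fin.ext (by omega)
    rw [h11]
  have h1 := Nat.card_le_card_of_injective f hf
  rw [Nat.card_prod, Nat.card_fin, Nat.card_eq_fintype_card (α := ((Finset.univ.filter fun g : alternatingGroup (Fin n) =>
    g.val.cycleType = {p}) : Finset _)), Fintype.card_coe,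
    AlternatingGroup.card_of_cycleType_singleton hp.two_le (by rw [Fintype.card_fin]; exact hpn), if_pos ho,
    Fintype.card_fin] at h1
  have h2 : Nat.card (alternatingGroup (Fin n) ⧸ N) = N.index := rfl
  rw [h2] at h1
  calc p * (p - 1) * N.index = p * (N.index * (p - 1)) := by ring
    _ ≤ p * ((p - 1).factorial * n.choose p) := Nat.mul_le_mul_left _ h1
    _ = n.descFactorial p := by
      rw [Nat.descFactorial_eq_factorial_mul_choose, ← mul_assoc, Nat.mul_factorial_pred hp.ne_zero]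

/-- the centralizer -/
theorem IsPC.centralizer_le {p : ℕ} {x : alternatingGroup (Fin n)} (h : IsPC p x) :
    Nat.card (Subgroup.centralizer ({x} : Set (alternatingGroup (Fin n)))) ≤ (n - p).factorial * p := by
  classical
  have h1 : Nat.card (Subgroup.centralizer ({(x : Perm (Fin n))} : Set (Perm (Fin n)))) = (n - p).factorial * p := by
    rw [Equiv.Perm.nat_card_centralizer, h.cycleType]
    simp
  rw [← h1]
  let f : Subgroup.centralizer ({x} : Set (alternatingGroup (Fin n))) →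
      Subgroup.centralizer ({(x : Perm (Fin n))} : Set (Perm (Fin n))) := fun y =>
    ⟨((y : alternatingGroup (Fin n)) : Perm (Fin n)), by
      have := Subgroup.mem_centralizer_singleton_iff.1 y.2
      rw [Subgroup.mem_centralizer_singleton_iff]
      exact congrArg Subtype.val this⟩
  refine Nat.card_le_card_of_injective f fun a b hab => ?_
  have h4 := congrArg Subtype.val hab
  exact Subtype.ext (Subtype.ext h4)

/-- rationality, `p + 2 ≤ n` -/
theorem IsPC.isConj {p : ℕ} (hp : p.Prime) (hpn : p + 2 ≤ n) {x : alternatingGroup (Fin n)} (h : IsPC p x) {k : ℕ}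
    (hk : ¬ p ∣ k) : IsConj x (x ^ k) := by
  have h1 := h.pow' hp hk
  exact isConj_of_cycle h.cyc h1.cyc (by rw [h.card, h1.card]) (by rw [h.card]; exact hpn)

theorem IsPC.rat {p : ℕ} (hp : p.Prime) (hpn : p + 2 ≤ n) {x : alternatingGroup (Fin n)} (h : IsPC p x) :
    ∀ k : ℕ, k ^ (p - 1) % p = 1 → IsConj x (x ^ k) := by
  intro k hk
  refine h.isConj hp hpn fun h1 => ?_
  have h2 : k ^ (p - 1) % p = 0 := Nat.mod_eq_zero_of_dvd (dvd_pow h1 (by have := hp.two_le; omega))
  omega

/-- rationality for squares -/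
theorem IsPC.rat2 {p : ℕ} (hp : p.Prime) (ho : Odd p) {x : alternatingGroup (Fin n)} (h : IsPC p x) :
    ∀ k : ℕ, k ^ ((p - 1) / 2) % p = 1 → IsConj x (x ^ k) := by
  intro k hk
  have : Fact p.Prime := ⟨hp⟩
  have hp3 : 3 ≤ p := by
    have := hp.two_le
    rcases ho with ⟨m, hm⟩
    omega
  have hk0 : (k : ZMod p) ≠ 0 := by
    rw [Ne, ZMod.natCast_eq_zero_iff]
    intro h1
    have h2 : k ^ ((p - 1) / 2) % p = 0 := Nat.mod_eq_zero_of_dvd (dvd_pow h1 (by omega))
    omega
  have hsq : IsSquare (k : ZMod p) := by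
    rw [ZMod.euler_criterion p hk0]
    have h1 : (((k ^ ((p - 1) / 2) % p : ℕ)) : ZMod p) = 1 := by rw [hk, Nat.cast_one]
    rw [ZMod.natCast_mod, Nat.cast_pow] at h1
    have h2 : p / 2 = (p - 1) / 2 := by
      rcases ho with ⟨m, hm⟩
      omega
    rw [h2]
    exact h1
  obtain ⟨j, hj⟩ := hsq
  have hj' : (k : ZMod p) = ((j.val * j.val : ℕ) : ZMod p) := by
    rw [Nat.cast_mul, ZMod.natCast_zmod_val, hj]
  have hxk : x ^ k = x ^ (j.val * j.val) := by
    rw [← pow_mod_orderOf, ← pow_mod_orderOf x (j.val * j.val), h.order]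
    congr 1
    exact (ZMod.natCast_eq_natCast_iff' _ _ _).1 hj'
  have hjp : ¬ p ∣ j.val := by
    intro h1
    apply hk0
    rw [hj', ZMod.natCast_eq_zero_iff]
    exact h1.mul_right _
  have hc := h.pow' hp hjp
  have hcc : IsConj (x : Perm (Fin n)) ((x ^ j.val : alternatingGroup (Fin n)) : Perm (Fin n)) := by
    rw [h.cyc.isConj_iff hc.cyc, h.card, hc.card]
  obtain ⟨g, hg⟩ := isConj_iff.1 hcc
  rw [Subgroup.coe_pow] at hg
  rw [isConj_iff]
  have hgs : g * g ∈ alternatingGroup (Fin n) := by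
    rw [Perm.mem_alternatingGroup, Perm.sign_mul]
    exact Int.units_mul_self _
  refine ⟨⟨g * g, hgs⟩, ?_⟩
  apply Subtype.ext
  rw [Subgroup.coe_mul, Subgroup.coe_mul, Subgroup.coe_inv, hxk, Subgroup.coe_pow, pow_mul, ← hg]
  simp only
  rw [conj_pow, ← hg]
  group

theorem prime_dvd_card {q : ℕ} (hn : 4 ≤ n) (hq : q.Prime) (hqn : q ≤ n) : q ∣ Nat.card (alternatingGroup (Fin n)) := by
  have : Nontrivial (Fin n) := Fin.nontrivial_iff_two_le.2 (by omega)
  have h1 := two_mul_nat_card_alternatingGroup (α := Fin n)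
  rw [Nat.card_perm, Nat.card_fin] at h1
  by_cases h2 : q = 2
  · subst h2
    have h3 : 2 * 2 ∣ n.factorial := by
      have : (4 : ℕ).factorial ∣ n.factorial := Nat.factorial_dvd_factorial hn
      exact (by decide : 2 * 2 ∣ (4 : ℕ).factorial).trans this
    rw [← h1] at h3
    exact Nat.dvd_of_mul_dvd_mul_left (by norm_num) h3
  · have h3 : q ∣ 2 * Nat.card (alternatingGroup (Fin n)) := by
      rw [h1]; exact hq.dvd_factorial.2 hqn
    rcases hq.dvd_mul.1 h3 with h4 | h4
    · exact absurd ((Nat.prime_dvd_prime_iff_eq hq Nat.prime_two).1 h4) h2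
    · exact h4

theorem le_of_dvd_card {q : ℕ} (hn : 4 ≤ n) (hq : q.Prime) (h : q ∣ Nat.card (alternatingGroup (Fin n))) : q ≤ n := by
  have : Nontrivial (Fin n) := Fin.nontrivial_iff_two_le.2 (by omega)
  have h1 := two_mul_nat_card_alternatingGroup (α := Fin n)
  rw [Nat.card_perm, Nat.card_fin] at h1
  have h3 : q ∣ n.factorial := by
    rw [← h1]; exact h.mul_left _
  exact hq.dvd_factorial.1 h3

end Cfsg.Agent.H575.QA
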